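import Cfsg.Agent.Lib.Fischer.Clq
import Cfsg.Agent.Lib.Fischer.X21.Tr

set_option autoImplicit false
set_option maxRecDepth 100000

namespace Cfsg.Agent.Fi.K21

open Cfsg.Agent.PC

def c1 (i : ℕ) : ℕ := Nat.land (Nat.shiftRight (nat_lit 0x1b95f07136c00d) (Nat.mul (nat_lit 9) i)) (nat_lit 511)
def O1_t : TN := (TN.node (TN.leaf (nat_lit 0x55555565565a5555556a59a95555555555aa555555556566a955a6a6a9555555555569555555596aa6aaa5a5555555559a5555569555555aaaaa9a555555555555555aaa55565555aaaa955555559555565556aaa956556aaa6555555555556956aa555a96955555555a56a559a5555559596a9555595aa5555aa955aa95aaa4)) (TN.leaf (nat_lit 0x15955569559565a5655a5555555555556a9555555a555556a55555a5556955555555655656a95556555555556a5)))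
noncomputable def O1 (i : ℕ) : ℕ := get9 O1_t (nat_lit 2) (nat_lit 3) i
def r1 (i : ℕ) : ℕ := Nat.land (Nat.shiftRight (nat_lit 36) (Nat.mul (nat_lit 2) i)) (nat_lit 3)
def U1_t : TN := (TN.node (TN.leaf (nat_lit 0x62a8dc8a560b854ac54139148a360105ca8050289866461b1186c57190d86e261b8188a071301846352189864361b0d40a031a04c4a05138d02e55130e0a804220d48c260a0540c450a11c8c062a89486061b0980e061b0140c16130d84c3622954ac381a8180a422a1504836208504246138580c25120dc68141b11406420200c0c062a8944c55231544a350281046342a8548a250a8146e27130d44c13020940a56091546c071a91c6c45130d808352a0ccaa23130904613228486434020d46a522a8104a1502858aa162a11c46571b8142a251a8544e541b1502a5523950aa150a85086351289c4c422b0980c23038540a12188500c151b81888351090ca254220d42c342a9500a061a8d028162215424172180c0826120dc8c36028d008460a0888e460b0980c04019548a351a10c4c27221542c43130d06a552308c0c260a01448150111466261a88ca435230d8245311850ac14129582e361b04848152305c06361a8988c360309c4618039544a252a0d426141b1504a032a1142c15118d446351188c8e012a88ca8141a0cc0a560a84c6426130d82e26120982c460a01046152b1588a141b94c6a560a1540836229144c45020d4680611898aa42031184621130d42a462b898a8570b8546845129184c222a8d88e140985068142285828342a01866562100cac54129502c440a9540c23198d4aa042a85c2c552204c4a51120c868450901cac26198586c260b0146e25298d04812220982c24231500a062205024232081422362a0544c552a9504a150a0948a550914c644508000000))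 (TN.leaf (nat_lit 0xc040291408361a8cc0a460295406552b0cc8c260a81048262b9182a562311048362a898aa4702898a854128944c23229104e04230186c13230984a351b0188c271290caa552a898aa050a9482c041b9204c462b0984a361a8cc4c332b0586a4312898ac36231180c271a1548a051b9188e342b0d08c04029180424228908834130582606029146c552b9548c560a8544e52228148c46028dc68561b1588e241309848051995066351289846261a81c6c051181408471b094ac362995868442a8946c452309c0c352a098ac4)))
noncomputable def U1 (i : ℕ) : ℕ := get9 U1_t (nat_lit 9) (nat_lit 511) i
def c2 (i : ℕ) : ℕ := Nat.land (Nat.shiftRight (nat_lit 0x140f0f40e37a40) (Nat.mul (nat_lit 10) i)) (nat_lit 1023)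
def O2_t : TN := (TN.node (TN.leaf (nat_lit 0x61878168881183811113883388887886666663337836333181118686888886888161335311181811188888188511138333388886336333833531118888888888181616111351811118771888875173333383333333663511771666888686861737336687111161155771117777778755333333333655761611111777776668666767778877333333677111157111677735333333516786881111811156777666687377768883333353371115611673533335851688886888811161167768835766833333611616333885578888668611616778556663336166383577866661667156663663335716666611566633331166611653333116115533311155543210)) (TN.leaf (nat_lit 0x7773776767775577777a77779175567737776331717887787877766666677777533577778717771175566786688767533717877681833811711853888877787876666666377777566633337188171158667788868688766633311)))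
noncomputable def O2 (i : ℕ) : ℕ := get9 O2_t (nat_lit 4) (nat_lit 15) i
def r2 (i : ℕ) : ℕ := Nat.land (Nat.shiftRight (nat_lit 0x2a1a70470c8120140400c0200400) (Nat.mul (nat_lit 10) i)) (nat_lit 1023)
def U2_t : TN := (TN.node (TN.leaf (nat_lit 0x65848364858282658481c14061618584656520a481c320a3a5618083c584a0c5854065a382c4608062a484648385646082c2a08485618063c561a1a3a161a440836440a560a143836060858440c5404582a383a561a0a4806341a38483a4c5a180854081818384a1658240838564626360a3a081a4a0a2806321a4a0a360a4a364a342814361856461808584a5a3a5a164a381a384a584a080818565a0c4a5a56544806462a36185a561818180608461a0a58360a5a581c562c345a28382a3a483a36184a2a3a38064a264a48585a56363a3a3a54163a2a0a0c0a5c264a16121828181858483a18185a183c3c463a483a583648441828463a360636161a463a141818364a08480c1c54585a1624164634361a1a18261a285a083458520a3a0a04545a4a2608063a1a0a4826062a0c5e140a583654085a3636381a58284a0c16085e3a2a580802383c5406265856540a0438581c08465a283a3218045812141856580a4a3c1608483a1a1a3236524a1c18065834382c160a5a0c3a3a443838562a1a5a1436545a4a54441818263426241a1456283838045e1e3e065446263a563a280618080e16323a3c563822361656264a282c18060c3c300454482858443c0e38445c583a06285646563a0a300a024622265c0a023438180804543858044c38225a0a065a024248081c422c100804345456263a125a1a04422000000000000))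 (TN.leaf (nat_lit 0x206161c0c3a38445848140a160608481a2a2a400a3a3858500808561a1a0e3c4a1c381a164806062a144648263828465c3814280a4a0a063628141808065838520426460a4a18343c083a0c34144a16081606065c0a3a3808043a084a263816381a36563a585a5a4a165a483a0a0a4628563a2a545a4a185848563a38185a3a2c183606562c5a283458285a5a5658483818381838283a18141a180c3c180816485c0856182c0c084c0a082608582a5a583a2806285)))
noncomputable def U2 (i : ℕ) : ℕ := get9 U2_t (nat_lit 8) (nat_lit 255) i
def Ln : List ℕ := [nat_lit 0, nat_lit 2, nat_lit 4, nat_lit 668, nat_lit 673]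
def Pl : List ℕ := [nat_lit 0, nat_lit 2, nat_lit 4, nat_lit 5, nat_lit 7, nat_lit 41, nat_lit 51, nat_lit 156, nat_lit 161, nat_lit 168, nat_lit 175, nat_lit 199, nat_lit 398, nat_lit 422, nat_lit 441, nat_lit 664, nat_lit 665, nat_lit 668, nat_lit 673, nat_lit 679, nat_lit 680]
noncomputable def A : ℕ → ℕ → ℕ := tp X21.T X21.V (nat_lit 4)
noncomputable def f (i : ℕ) : ℕ := Nat.add (Nat.add (Nat.add (clsE (fun j => A (c1 j)) (nat_lit 6) O1 r1 U1 i) (clsE (fun j => A (c2 j)) (nat_lit 6) O2 r2 U2 i))
  (fxE A [0] i (Nat.mul i (Nat.xor (O1 i) (nat_lit 2))))) (Nat.add (fxE A [0, 2] i (Nat.mul (memE i Ln) (Nat.xor (O2 i) (nat_lit 5)))) (fxE A [0, 2, 5] i (memE i Pl)))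
theorem r0 : Nat.beq (rng f (nat_lit 0) (nat_lit 693)) (nat_lit 0) = true := by decide +kernel
theorem h0 : ∀ i < 693, f i = 0 := by
  have h := zero_lt_zero f
  have h := zero_lt_add (a := (nat_lit 0)) (n := (nat_lit 693)) (b := (nat_lit 693)) h r0 rfl
  exact h

variable {G : Type*} [Group G] {D : Set G} {pt : ℕ → G}

theorem pair (F : FD D X21.T X21.P 693 16 pt) {x y : G} (hx : x ∈ D) (hy : y ∈ Dc D x) :
    ∃ g : G, g * pt 0 * g⁻¹ = x ∧ g * pt 2 * g⁻¹ = y := by
  obtain ⟨g, rfl⟩ := X21.trans F x hx
  obtain ⟨i, hi, e⟩ := (F.conj g).ex hy.1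
  subst e
  have t := add_eq_zero' (add_eq_zero' (h0 i hi)).1
  have t1 := F.fx X21.dsc (by decide) hi t.2 (by simpa using (commute_cj g).mp hy.2.2)
  have t2 := xor_eq_zero' ((mul_eq_zero' t1).resolve_left fun e => hy.2.1 (by rw [e]))
  obtain ⟨a, ha, e⟩ := F.cls X21.dsc (c := c1) (r := 6) (by decide)
    (fun i hi => (add_eq_zero' (add_eq_zero' (add_eq_zero' (h0 i hi)).1).1).1) i hi
  have t3 : Commute (pt 0) a := gen_comm (fun j hj => (F.comm_iff X21.dsc (by decide) (by revert j; decide)).mpr
    (by revert j; decide +kernel)) ha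
  rw [t2] at e
  exact ⟨g * a, by rw [mul_inv_rev, mul_assoc g a, ← t3.eq]; group, by rw [← e]; show _ = g * (a * pt 2 * a⁻¹) * g⁻¹; group⟩

theorem trK2 (F : FD D X21.T X21.P 693 16 pt) : TrK D 2 := trK_of [pt 0, pt 2] fun l hl h => by
  obtain ⟨x, y, rfl⟩ := List.length_eq_two.mp h
  obtain ⟨g, h1, h2⟩ := pair F (hl.2.1 x (by simp)) (hl.tail.2.1 y (by simp))
  exact ⟨g, by simp only [List.map_cons, List.map_nil, cj, h1, h2]⟩

theorem trK1 (F : FD D X21.T X21.P 693 16 pt) : TrK D 1 := trK_of [pt 0] fun l hl h => by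
  obtain ⟨x, rfl⟩ := List.length_eq_one_iff.mp h
  obtain ⟨g, h1⟩ := X21.trans F x (hl.2.1 x (by simp))
  exact ⟨g, by simp only [List.map_cons, List.map_nil, cj, h1]⟩

/-- every clique lies in a conjugate of the plane -/
theorem plane (F : FD D X21.T X21.P 693 16 pt) {l : List G} (hl : Clq D l) :
    ∃ g : G, ∀ x ∈ l, x ∈ Pl.map fun i => g * pt i * g⁻¹ := by
  rcases l with _ | ⟨x, _ | ⟨y, l⟩⟩
  · exact ⟨1, by simp⟩
  · obtain ⟨g, rfl⟩ := X21.trans F x (hl.2.1 x (by simp))
    exact ⟨g, by simpa using ⟨0, by decide, rfl⟩⟩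
  obtain ⟨g, h1, h2⟩ := pair F (hl.2.1 x (by simp)) (hl.tail.2.1 y (by simp))
  have F1 := F.conj g
  by_cases hL : ∀ z ∈ x :: y :: l, z ∈ Ln.map fun i => g * pt i * g⁻¹
  · exact ⟨g, fun z hz => List.map_subset _ (show Ln ⊆ Pl by decide) (hL z hz)⟩
  push Not at hL
  obtain ⟨z, hz, hz'⟩ := hL
  obtain ⟨i, hi, rfl⟩ := F1.ex (hl.2.1 z hz)
  have t1 := F1.fx X21.dsc (by decide) hi (add_eq_zero' (add_eq_zero' (h0 i hi)).2).1 (by
    simp only [List.forall_mem_cons, h1, h2]
    exact ⟨hl.2.2 _ (by simp) _ hz, hl.2.2 _ (by simp) _ hz, by simp⟩)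
  have t2 := xor_eq_zero' ((mul_eq_zero' t1).resolve_left fun e => hz' (List.mem_map_of_mem (memE_zero e)))
  obtain ⟨a, ha, e⟩ := F1.cls X21.dsc (c := c2) (r := 6) (by decide)
    (fun i hi => (add_eq_zero' (add_eq_zero' (add_eq_zero' (h0 i hi)).1).1).2) i hi
  have t3 : Commute (g * pt 0 * g⁻¹) a := gen_comm (fun j hj => (F1.comm_iff X21.dsc (by decide) (by revert j; decide)).mpr
    (by revert j; decide +kernel)) ha
  have t4 : Commute (g * pt 2 * g⁻¹) a := gen_comm (fun j hj => (F1.comm_iff X21.dsc (by decide) (by revert j; decide)).mpr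
    (by revert j; decide +kernel)) ha
  rw [t2] at e
  have F2 := F1.conj a
  refine ⟨a * g, fun w hw => ?_⟩
  obtain ⟨k, hk, rfl⟩ := F2.ex (hl.2.1 w hw)
  have t5 := F2.fx X21.dsc (by decide) hk (add_eq_zero' (add_eq_zero' (h0 k hk)).2).2 (by
    simp only [List.forall_mem_cons]
    rw [conj_eq_iff.mpr t3.symm, conj_eq_iff.mpr t4.symm, h1, h2, show a * (g * pt 5 * g⁻¹) * a⁻¹ = _ from e]
    exact ⟨hl.2.2 _ (by simp) _ hw, hl.2.2 _ (by simp) _ hw, hl.2.2 _ hz _ hw, by simp⟩)
  exact List.mem_map.mpr ⟨k, memE_zero t5, by group⟩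

theorem width_le (F : FD D X21.T X21.P 693 16 pt) (l : List G) (hl : Clq D l) : l.length ≤ 21 := by
  obtain ⟨g, hg⟩ := plane F hl
  exact hl.length_le hg

theorem clq (F : FD D X21.T X21.P 693 16 pt) : Clq D (Pl.map pt) := F.clq X21.dsc (by decide) (by decide +kernel)

theorem width_ge (F : FD D X21.T X21.P 693 16 pt) : ∃ l, Clq D l ∧ l.length = 21 := ⟨_, clq F, rfl⟩

end Cfsg.Agent.Fi.K21
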