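import Cfsg.Agent.Lib.Fischer.U21.Q

set_option autoImplicit false
set_option maxRecDepth 100000

namespace Cfsg.Agent.Fi.U21

open Cfsg.Agent.PC

theorem a0 : Nat.beq (rng f1 (nat_lit 0) (nat_lit 693)) (nat_lit 0) = true := by decide +kernel
theorem b0 : Nat.beq (rng f2 (nat_lit 0) (nat_lit 128)) (nat_lit 0) = true := by decide +kernel
theorem b128 : Nat.beq (rng f2 (nat_lit 128) (nat_lit 128)) (nat_lit 0) = true := by decide +kernel
theorem b256 : Nat.beq (rng f2 (nat_lit 256) (nat_lit 128)) (nat_lit 0) = true := by decide +kernel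
theorem b384 : Nat.beq (rng f2 (nat_lit 384) (nat_lit 96)) (nat_lit 0) = true := by decide +kernel
theorem c0 : Nat.beq (rng f3 (nat_lit 0) (nat_lit 4)) (nat_lit 0) = true := by decide +kernel
theorem c4 : Nat.beq (rng f3 (nat_lit 4) (nat_lit 4)) (nat_lit 0) = true := by decide +kernel
theorem c8 : Nat.beq (rng f3 (nat_lit 8) (nat_lit 4)) (nat_lit 0) = true := by decide +kernel
theorem c12 : Nat.beq (rng f3 (nat_lit 12) (nat_lit 3)) (nat_lit 0) = true := by decide +kernel

end Cfsg.Agent.Fi.U21
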