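import Cfsg.Agent.Lib.Fischer.U21.Z

set_option autoImplicit false
set_option maxRecDepth 100000

namespace Cfsg.Agent.Fi.U21

open Cfsg.Agent.PC

theorem d0 : Nat.beq (rng f4 (nat_lit 0) (nat_lit 1024)) (nat_lit 0) = true := by decide +kernel
theorem d1024 : Nat.beq (rng f4 (nat_lit 1024) (nat_lit 1024)) (nat_lit 0) = true := by decide +kernel
theorem d2048 : Nat.beq (rng f4 (nat_lit 2048) (nat_lit 1024)) (nat_lit 0) = true := by decide +kernel
theorem d3072 : Nat.beq (rng f4 (nat_lit 3072) (nat_lit 1024)) (nat_lit 0) = true := by decide +kernel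
theorem d4096 : Nat.beq (rng f4 (nat_lit 4096) (nat_lit 1024)) (nat_lit 0) = true := by decide +kernel
theorem d5120 : Nat.beq (rng f4 (nat_lit 5120) (nat_lit 1024)) (nat_lit 0) = true := by decide +kernel
theorem d6144 : Nat.beq (rng f4 (nat_lit 6144) (nat_lit 1024)) (nat_lit 0) = true := by decide +kernel
theorem d7168 : Nat.beq (rng f4 (nat_lit 7168) (nat_lit 1024)) (nat_lit 0) = true := by decide +kernel
theorem d8192 : Nat.beq (rng f4 (nat_lit 8192) (nat_lit 1024)) (nat_lit 0) = true := by decide +kernel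
theorem d9216 : Nat.beq (rng f4 (nat_lit 9216) (nat_lit 1024)) (nat_lit 0) = true := by decide +kernel
theorem d10240 : Nat.beq (rng f4 (nat_lit 10240) (nat_lit 1024)) (nat_lit 0) = true := by decide +kernel
theorem d11264 : Nat.beq (rng f4 (nat_lit 11264) (nat_lit 1024)) (nat_lit 0) = true := by decide +kernel
theorem d12288 : Nat.beq (rng f4 (nat_lit 12288) (nat_lit 1024)) (nat_lit 0) = true := by decide +kernel
theorem d13312 : Nat.beq (rng f4 (nat_lit 13312) (nat_lit 1024)) (nat_lit 0) = true := by decide +kernel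
theorem d14336 : Nat.beq (rng f4 (nat_lit 14336) (nat_lit 1024)) (nat_lit 0) = true := by decide +kernel
theorem d15360 : Nat.beq (rng f4 (nat_lit 15360) (nat_lit 1024)) (nat_lit 0) = true := by decide +kernel

end Cfsg.Agent.Fi.U21
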