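import Cfsg.Agent.Lib.Fischer.U21.Z

set_option autoImplicit false
set_option maxRecDepth 100000

namespace Cfsg.Agent.Fi.U21

open Cfsg.Agent.PC

theorem d16384 : Nat.beq (rng f4 (nat_lit 16384) (nat_lit 1024)) (nat_lit 0) = true := by decide +kernel
theorem d17408 : Nat.beq (rng f4 (nat_lit 17408) (nat_lit 1024)) (nat_lit 0) = true := by decide +kernel
theorem d18432 : Nat.beq (rng f4 (nat_lit 18432) (nat_lit 1024)) (nat_lit 0) = true := by decide +kernel
theorem d19456 : Nat.beq (rng f4 (nat_lit 19456) (nat_lit 1024)) (nat_lit 0) = true := by decide +kernel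
theorem d20480 : Nat.beq (rng f4 (nat_lit 20480) (nat_lit 1024)) (nat_lit 0) = true := by decide +kernel
theorem d21504 : Nat.beq (rng f4 (nat_lit 21504) (nat_lit 1024)) (nat_lit 0) = true := by decide +kernel
theorem d22528 : Nat.beq (rng f4 (nat_lit 22528) (nat_lit 1024)) (nat_lit 0) = true := by decide +kernel
theorem d23552 : Nat.beq (rng f4 (nat_lit 23552) (nat_lit 1024)) (nat_lit 0) = true := by decide +kernel
theorem d24576 : Nat.beq (rng f4 (nat_lit 24576) (nat_lit 1024)) (nat_lit 0) = true := by decide +kernel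
theorem d25600 : Nat.beq (rng f4 (nat_lit 25600) (nat_lit 1024)) (nat_lit 0) = true := by decide +kernel
theorem d26624 : Nat.beq (rng f4 (nat_lit 26624) (nat_lit 1024)) (nat_lit 0) = true := by decide +kernel
theorem d27648 : Nat.beq (rng f4 (nat_lit 27648) (nat_lit 1024)) (nat_lit 0) = true := by decide +kernel
theorem d28672 : Nat.beq (rng f4 (nat_lit 28672) (nat_lit 1024)) (nat_lit 0) = true := by decide +kernel
theorem d29696 : Nat.beq (rng f4 (nat_lit 29696) (nat_lit 1024)) (nat_lit 0) = true := by decide +kernel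
theorem d30720 : Nat.beq (rng f4 (nat_lit 30720) (nat_lit 1024)) (nat_lit 0) = true := by decide +kernel
theorem d31744 : Nat.beq (rng f4 (nat_lit 31744) (nat_lit 1024)) (nat_lit 0) = true := by decide +kernel

end Cfsg.Agent.Fi.U21
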