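import Cfsg.Agent.Lib.Fischer.X21.Tr
import Cfsg.Agent.Lib.Fischer.U21.A0
import Cfsg.Agent.Lib.Fischer.U21.R0
import Cfsg.Agent.Lib.Fischer.U21.R1

set_option autoImplicit false
set_option maxRecDepth 100000

namespace Cfsg.Agent.Fi.U21

open Cfsg.Agent.PC

theorem h1 : ∀ i < 693, f1 i = 0 := by
  have h := zero_lt_zero f1
  have h := zero_lt_add (a := (nat_lit 0)) (n := (nat_lit 693)) (b := (nat_lit 693)) h a0 rfl
  exact h
theorem h2 : ∀ i < 480, f2 i = 0 := by
  have h := zero_lt_zero f2
  have h := zero_lt_add (a := (nat_lit 0)) (n := (nat_lit 128)) (b := (nat_lit 128)) h b0 rfl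
  have h := zero_lt_add (a := (nat_lit 128)) (n := (nat_lit 128)) (b := (nat_lit 256)) h b128 rfl
  have h := zero_lt_add (a := (nat_lit 256)) (n := (nat_lit 128)) (b := (nat_lit 384)) h b256 rfl
  have h := zero_lt_add (a := (nat_lit 384)) (n := (nat_lit 96)) (b := (nat_lit 480)) h b384 rfl
  exact h
theorem h3 : ∀ i < 15, f3 i = 0 := by
  have h := zero_lt_zero f3
  have h := zero_lt_add (a := (nat_lit 0)) (n := (nat_lit 4)) (b := (nat_lit 4)) h c0 rfl
  have h := zero_lt_add (a := (nat_lit 4)) (n := (nat_lit 4)) (b := (nat_lit 8)) h c4 rfl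
  have h := zero_lt_add (a := (nat_lit 8)) (n := (nat_lit 4)) (b := (nat_lit 12)) h c8 rfl
  have h := zero_lt_add (a := (nat_lit 12)) (n := (nat_lit 3)) (b := (nat_lit 15)) h c12 rfl
  exact h
theorem h4 : ∀ i < 32768, f4 i = 0 := by
  have h := zero_lt_zero f4
  have h := zero_lt_add (a := (nat_lit 0)) (n := (nat_lit 1024)) (b := (nat_lit 1024)) h d0 rfl
  have h := zero_lt_add (a := (nat_lit 1024)) (n := (nat_lit 1024)) (b := (nat_lit 2048)) h d1024 rfl
  have h := zero_lt_add (a := (nat_lit 2048)) (n := (nat_lit 1024)) (b := (nat_lit 3072)) h d2048 rfl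
  have h := zero_lt_add (a := (nat_lit 3072)) (n := (nat_lit 1024)) (b := (nat_lit 4096)) h d3072 rfl
  have h := zero_lt_add (a := (nat_lit 4096)) (n := (nat_lit 1024)) (b := (nat_lit 5120)) h d4096 rfl
  have h := zero_lt_add (a := (nat_lit 5120)) (n := (nat_lit 1024)) (b := (nat_lit 6144)) h d5120 rfl
  have h := zero_lt_add (a := (nat_lit 6144)) (n := (nat_lit 1024)) (b := (nat_lit 7168)) h d6144 rfl
  have h := zero_lt_add (a := (nat_lit 7168)) (n := (nat_lit 1024)) (b := (nat_lit 8192)) h d7168 rfl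
  have h := zero_lt_add (a := (nat_lit 8192)) (n := (nat_lit 1024)) (b := (nat_lit 9216)) h d8192 rfl
  have h := zero_lt_add (a := (nat_lit 9216)) (n := (nat_lit 1024)) (b := (nat_lit 10240)) h d9216 rfl
  have h := zero_lt_add (a := (nat_lit 10240)) (n := (nat_lit 1024)) (b := (nat_lit 11264)) h d10240 rfl
  have h := zero_lt_add (a := (nat_lit 11264)) (n := (nat_lit 1024)) (b := (nat_lit 12288)) h d11264 rfl
  have h := zero_lt_add (a := (nat_lit 12288)) (n := (nat_lit 1024)) (b := (nat_lit 13312)) h d12288 rfl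
  have h := zero_lt_add (a := (nat_lit 13312)) (n := (nat_lit 1024)) (b := (nat_lit 14336)) h d13312 rfl
  have h := zero_lt_add (a := (nat_lit 14336)) (n := (nat_lit 1024)) (b := (nat_lit 15360)) h d14336 rfl
  have h := zero_lt_add (a := (nat_lit 15360)) (n := (nat_lit 1024)) (b := (nat_lit 16384)) h d15360 rfl
  have h := zero_lt_add (a := (nat_lit 16384)) (n := (nat_lit 1024)) (b := (nat_lit 17408)) h d16384 rfl
  have h := zero_lt_add (a := (nat_lit 17408)) (n := (nat_lit 1024)) (b := (nat_lit 18432)) h d17408 rfl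
  have h := zero_lt_add (a := (nat_lit 18432)) (n := (nat_lit 1024)) (b := (nat_lit 19456)) h d18432 rfl
  have h := zero_lt_add (a := (nat_lit 19456)) (n := (nat_lit 1024)) (b := (nat_lit 20480)) h d19456 rfl
  have h := zero_lt_add (a := (nat_lit 20480)) (n := (nat_lit 1024)) (b := (nat_lit 21504)) h d20480 rfl
  have h := zero_lt_add (a := (nat_lit 21504)) (n := (nat_lit 1024)) (b := (nat_lit 22528)) h d21504 rfl
  have h := zero_lt_add (a := (nat_lit 22528)) (n := (nat_lit 1024)) (b := (nat_lit 23552)) h d22528 rfl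
  have h := zero_lt_add (a := (nat_lit 23552)) (n := (nat_lit 1024)) (b := (nat_lit 24576)) h d23552 rfl
  have h := zero_lt_add (a := (nat_lit 24576)) (n := (nat_lit 1024)) (b := (nat_lit 25600)) h d24576 rfl
  have h := zero_lt_add (a := (nat_lit 25600)) (n := (nat_lit 1024)) (b := (nat_lit 26624)) h d25600 rfl
  have h := zero_lt_add (a := (nat_lit 26624)) (n := (nat_lit 1024)) (b := (nat_lit 27648)) h d26624 rfl
  have h := zero_lt_add (a := (nat_lit 27648)) (n := (nat_lit 1024)) (b := (nat_lit 28672)) h d27648 rfl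
  have h := zero_lt_add (a := (nat_lit 28672)) (n := (nat_lit 1024)) (b := (nat_lit 29696)) h d28672 rfl
  have h := zero_lt_add (a := (nat_lit 29696)) (n := (nat_lit 1024)) (b := (nat_lit 30720)) h d29696 rfl
  have h := zero_lt_add (a := (nat_lit 30720)) (n := (nat_lit 1024)) (b := (nat_lit 31744)) h d30720 rfl
  have h := zero_lt_add (a := (nat_lit 31744)) (n := (nat_lit 1024)) (b := (nat_lit 32768)) h d31744 rfl
  exact h

variable {G : Type*} [Group G] [Finite G] {D : Set G} {pt : ℕ → G}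

theorem syl (F : FD D X21.T X21.P 693 16 pt) (hG : Nat.card G = 9196830720) :
    Syl (X := Cj G) pt 693 2 15 (fun j => ev (fun j => pt (X21.P j)) (W j)) Q :=
  have R := reps_tabs F.reps (W := W) (by decide +kernel) h1
  Syl.of F.inj R (pc_of (X21.base F) R X21.Bs_lt (by decide) h2) h3 (by rw [hG]; decide)

theorem invs (F : FD D X21.T X21.P 693 16 pt) (hG : Nat.card G = 9196830720) (x : G) (hx : x ^ 2 = 1) :
    ∃ i < 7, ∃ k : G, k * x * k⁻¹ = ev (fun j => pt (X21.P j)) (S i) :=
  (syl F hG).classes (by decide) (X21.base F) X21.Bs_lt F.inj F.reps (by decide) h4 hx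

theorem uniq (F : FD D X21.T X21.P 693 16 pt) (hG : Nat.card G = 9196830720) {E : Set G} (hE : TT E)
    (hne : E.Nonempty) : E = D := by
  refine hE.eq_of_sub (X21.trans F) (F.tt.sub_of hE (invs F hG) fun i hi h => ?_) hne
  interval_cases i
  · exact absurd rfl (hE.ne _ h)
  · exact (show 1 * pt (X21.P 0) ∈ D from by
      rw [one_mul]; exact F.mem (F.plt _ (by decide)))
  · exact absurd h (F.not_mem hE (w := [nat_lit 11, nat_lit 15]) (a := 0) (b := 0) (by decide +kernel))
  · exact absurd h (F.not_mem hE (w := [nat_lit 11, nat_lit 10]) (a := 0) (b := 2) (by decide +kernel))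
  all_goals exact absurd rfl (hE.ne _ h)

end Cfsg.Agent.Fi.U21
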